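import Mathlib

set_option autoImplicit false
universe u

namespace Groth.Agent.H6.CoprodLemmas

open AlgebraicGeometry CategoryTheory CategoryTheory.Limits

variable {X Y Z : Scheme.{u}}

lemma isClosed_range_inl : IsClosed (Set.range (coprod.inl : X ⟶ X ⨿ Y)) := by
  rw [(isCompl_range_inl_inr X Y).eq_compl]
  exact (coprod.inr : Y ⟶ X ⨿ Y).isOpenEmbedding.isOpen_range.isClosed_compl

lemma isClosed_range_inr : IsClosed (Set.range (coprod.inr : Y ⟶ X ⨿ Y)) := by
  rw [(isCompl_range_inl_inr X Y).symm.eq_compl]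
  exact (coprod.inl : X ⟶ X ⨿ Y).isOpenEmbedding.isOpen_range.isClosed_compl

instance quasiCompact_inl : QuasiCompact (coprod.inl : X ⟶ X ⨿ Y) := by
  constructor
  intro U hU hUc
  exact (Topology.IsClosedEmbedding.mk (coprod.inl : X ⟶ X ⨿ Y).isOpenEmbedding.isEmbedding
    isClosed_range_inl).isCompact_preimage hUc

instance quasiCompact_inr : QuasiCompact (coprod.inr : Y ⟶ X ⨿ Y) := by
  constructor
  intro U hU hUc
  exact (Topology.IsClosedEmbedding.mk (coprod.inr : Y ⟶ X ⨿ Y).isOpenEmbedding.isEmbedding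
    isClosed_range_inr).isCompact_preimage hUc

lemma preimage_desc (f : X ⟶ Z) (g : Y ⟶ Z) (U : Set Z) :
    (coprod.desc f g) ⁻¹' U =
      (coprod.inl : X ⟶ X ⨿ Y) '' (f ⁻¹' U) ∪ (coprod.inr : Y ⟶ X ⨿ Y) '' (g ⁻¹' U) := by
  ext z
  obtain ⟨w, rfl⟩ := (coprodMk X Y).surjective z
  cases w with
  | inl x =>
    simp only [coprodMk_inl, Set.mem_preimage, Set.mem_union, Set.mem_image]
    have h1 : (coprod.desc f g) ((coprod.inl : X ⟶ X ⨿ Y) x) = f x := by
      rw [← Scheme.Hom.comp_apply, coprod.inl_desc]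
    rw [h1]
    constructor
    · intro h; exact Or.inl ⟨x, h, rfl⟩
    · rintro (⟨x', hx', e⟩ | ⟨y', _, e⟩)
      · have := (coprod.inl : X ⟶ X ⨿ Y).isOpenEmbedding.injective e
        rwa [← this]
      · exact absurd e (inr_ne_inl _ _ _ _)
  | inr y =>
    simp only [coprodMk_inr, Set.mem_preimage, Set.mem_union, Set.mem_image]
    have h1 : (coprod.desc f g) ((coprod.inr : Y ⟶ X ⨿ Y) y) = g y := by
      rw [← Scheme.Hom.comp_apply, coprod.inr_desc]
    rw [h1]
    constructor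
    · intro h; exact Or.inr ⟨y, h, rfl⟩
    · rintro (⟨x', _, e⟩ | ⟨y', hy', e⟩)
      · exact absurd e (inl_ne_inr _ _ _ _)
      · have := (coprod.inr : Y ⟶ X ⨿ Y).isOpenEmbedding.injective e
        rwa [← this]

lemma quasiSeparated_iff_forall_affineOpens (f : X ⟶ Y) :
    QuasiSeparated f ↔ ∀ U : Y.affineOpens, IsQuasiSeparated (f ⁻¹' (U : Set Y)) := by
  have h := HasAffineProperty.eq_targetAffineLocally (P := @QuasiSeparated)
    (Q := fun X _ _ _ ↦ QuasiSeparatedSpace X)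
  have h2 : QuasiSeparated f ↔ targetAffineLocally (fun X _ _ _ ↦ QuasiSeparatedSpace X) f := by
    conv_lhs => rw [h]
  rw [h2]
  refine forall_congr' fun U => ?_
  exact (isQuasiSeparated_iff_quasiSeparatedSpace _ (f ⁻¹ᵁ U.1).2).symm

/-- A union of two quasi-separated sets separated by a clopen set is quasi-separated. -/
lemma isQuasiSeparated_union_of_clopen {α : Type*} [TopologicalSpace α] {A B R : Set α}
    (hR : IsClopen R) (hA : A ⊆ R) (hB : B ⊆ Rᶜ)
    (hAq : IsQuasiSeparated A) (hBq : IsQuasiSeparated B) : IsQuasiSeparated (A ∪ B) := by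
  intro U V hU hUo hUc hV hVo hVc
  have key : ∀ W : Set α, W ⊆ A ∪ B → W ∩ R ⊆ A ∧ W ∩ Rᶜ ⊆ B := by
    intro W hW
    refine ⟨?_, ?_⟩
    · rintro x ⟨hxW, hxR⟩
      rcases hW hxW with h | h
      · exact h
      · exact absurd hxR (hB h)
    · rintro x ⟨hxW, hxR⟩
      rcases hW hxW with h | h
      · exact absurd (hA h) hxR
      · exact h
  have e : U ∩ V = ((U ∩ R) ∩ (V ∩ R)) ∪ ((U ∩ Rᶜ) ∩ (V ∩ Rᶜ)) := by
    ext x
    by_cases hx : x ∈ R <;> simp [hx]
  rw [e]
  refine IsCompact.union ?_ ?_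
  · exact hAq _ _ (key U hU).1 (hUo.inter hR.isOpen) (hUc.inter_right hR.isClosed)
      (key V hV).1 (hVo.inter hR.isOpen) (hVc.inter_right hR.isClosed)
  · exact hBq _ _ (key U hU).2 (hUo.inter hR.compl.isOpen) (hUc.inter_right hR.compl.isClosed)
      (key V hV).2 (hVo.inter hR.compl.isOpen) (hVc.inter_right hR.compl.isClosed)

lemma isClopen_range_inl : IsClopen (Set.range (coprod.inl : X ⟶ X ⨿ Y)) :=
  ⟨isClosed_range_inl, (coprod.inl : X ⟶ X ⨿ Y).isOpenEmbedding.isOpen_range⟩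

lemma quasiSeparated_desc (f : X ⟶ Z) (g : Y ⟶ Z) [QuasiSeparated f] [QuasiSeparated g] :
    QuasiSeparated (coprod.desc f g) := by
  rw [quasiSeparated_iff_forall_affineOpens]
  intro U
  rw [preimage_desc]
  refine isQuasiSeparated_union_of_clopen (isClopen_range_inl (X := X) (Y := Y))
    (Set.image_subset_range _ _) ?_ ?_ ?_
  · rw [(isCompl_range_inl_inr X Y).compl_eq]
    exact Set.image_subset_range _ _
  · exact ((coprod.inl : X ⟶ X ⨿ Y).isOpenEmbedding.isQuasiSeparated_iff).mp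
      ((quasiSeparated_iff_forall_affineOpens f).mp inferInstance U)
  · exact ((coprod.inr : Y ⟶ X ⨿ Y).isOpenEmbedding.isQuasiSeparated_iff).mp
      ((quasiSeparated_iff_forall_affineOpens g).mp inferInstance U)

end Groth.Agent.H6.CoprodLemmas
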